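import Cfsg.Agent.Coset.Pres
import Cfsg.Agent.Coset.Suz.Rels
import Cfsg.Prelude.Def_Spor_Suz

/-! The presentation of `Cfsg.Spor.Suz` as lists of words. -/

set_option autoImplicit false

namespace CfsgLib.Coset.Suz

open Cfsg.Spor

/-- Generator numbering. -/
def ix : Suz.Gen → Nat
  | .a => 0 | .b => 1 | .c => 2 | .d => 3 | .e => 4 | .f => 5 | .g => 6

/-- The presentation data. -/
@[reducible] def pres : PresData Suz.Gen where
  edges := Suz.edges
  nodes := [.a, .b, .c, .d, .e, .f, .g]
  extra := Suz.extra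
  ix := ix

theorem pres_ok : pres.OK := ⟨by intro x; cases x <;> decide⟩

theorem pres_gr : pres.Gr = Cfsg.Spor.Suz := rfl

end CfsgLib.Coset.Suz

namespace CfsgLib.Coset.Suz

theorem rels_eq : pres.rels = rels := by decide +kernel

end CfsgLib.Coset.Suz
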