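import Cfsg.Agent.Coset.Table
import Cfsg.Agent.Coset.Suz.Rels
import Cfsg.Agent.Coset.Suz.L2Data

set_option autoImplicit false
set_option maxRecDepth 100000
set_option Elab.async false

namespace CfsgLib.Coset.Suz.L2

/-- The relators on these letters, renumbered. -/
def lrels : List (List Nat) := [[0, 0], [0, 1, 0, 1, 0, 1, 0, 1, 0, 1], [0, 2, 0, 2], [0, 3, 0, 3], [0, 4, 0, 4], [1, 1], [1, 2, 1, 2, 1, 2], [1, 3, 1, 3], [1, 4, 1, 4], [2, 2], [2, 3, 2, 3, 2, 3, 2, 3, 2, 3, 2, 3, 2, 3, 2, 3], [2, 4, 2, 4], [3, 3], [3, 4, 3, 4, 3, 4], [4, 4], [0, 3, 2, 3, 2, 3, 2, 3, 2], [1, 2, 3, 2, 3, 1, 2, 3, 2, 3, 1, 2, 3, 2, 3, 1, 2, 3, 2, 3, 1, 2, 3, 2, 3, 4, 1, 2, 3, 2, 3, 1, 2, 3, 2, 3, 1, 2, 3, 2, 3, 1, 2, 3, 2, 3, 1, 2, 3, 2, 3, 4, 1, 2, 3, 2, 3, 1, 2, 3, 2, 3, 1, 2, 3, 2, 3, 1, 2, 3, 2, 3, 1, 2, 3, 2, 3, 4]]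

theorem hR : checkRules lrels subs R = true := by decide +kernel
theorem hdefs : checkDefs E 5 9 446 = true := by decide +kernel
theorem hsteps : checkChunks E id R 5 4 446 15 C = true := by decide +kernel
theorem htable : checkTable E id (446 + chunk * 15) 280 5 9 3 Rep Ref Tb = true := by decide +kernel

end CfsgLib.Coset.Suz.L2
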