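import Cfsg.Agent.Coset.Table
import Cfsg.Agent.Coset.Suz.Rels
import Cfsg.Agent.Coset.Suz.TopData

set_option autoImplicit false
set_option maxRecDepth 100000
set_option Elab.async false

namespace CfsgLib.Coset.Suz.Top

theorem hR : checkRules rels subs R = true := by decide +kernel
theorem hdefs : checkDefs E 7 13 7128 = true := by decide +kernel
theorem hsteps : checkChunks E id R 7 9 7128 327 C = true := by decide +kernel
theorem htable : checkTable E id (7128 + chunk * 327) 1782 7 11 3 Rep Ref Tb = true := by decide +kernel
theorem hperm : checkPerm id 1782 7 11 3 Tb = true := by decide +kernel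
theorem hrels : checkRels 1782 11 Tb rels = true := by decide +kernel
theorem htrans : checkTrans 1782 7 11 Tb Par = true := by decide +kernel

end CfsgLib.Coset.Suz.Top
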