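import Cfsg.Agent.Coset.Chain
import Cfsg.Agent.Coset.Suz.Data
import Cfsg.Agent.Coset.Suz.Top
import Cfsg.Agent.Coset.Suz.L1
import Cfsg.Agent.Coset.Suz.L2
import Cfsg.Agent.Coset.Suz.L3
import Cfsg.Agent.Coset.Suz.L4
import Cfsg.Agent.Coset.Suz.Col
import Cfsg.Agent.Coset.Suz.OrbData
import Cfsg.Prelude.Def_Sporadic

/-! The presented group `Cfsg.Spor.Suz`: order, simplicity and the rank 3 action. -/

set_option autoImplicit false
set_option maxRecDepth 100000
set_option Elab.async false

namespace CfsgLib.Coset.Suz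

/-- The generators. -/
noncomputable abbrev Lg : List Cfsg.Spor.Suz := pres.gens

theorem len_Lg : (Lg).length = 7 := rfl

theorem hix : ∀ l < 7, ∃ x, ix x = l := by
  intro l hl
  interval_cases l
  exacts [⟨.a, rfl⟩, ⟨.b, rfl⟩, ⟨.c, rfl⟩, ⟨.d, rfl⟩, ⟨.e, rfl⟩, ⟨.f, rfl⟩, ⟨.g, rfl⟩]

theorem ev_rels : ∀ w ∈ rels, ev Lg w = 1 := rels_eq ▸ pres.ev_rels pres_ok

theorem sq_all (x : Nat) : fl Lg x * fl Lg x = 1 := pres.sq_all pres_ok hix x

theorem inv_all (x : Nat) : fl Lg (id x) = (fl Lg x)⁻¹ := by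
  rw [id, inv_eq_of_mul_eq_one_right (sq_all x)]

theorem closure_Lg : Subgroup.closure {x | x ∈ Lg} = ⊤ := pres.closure_gens pres_ok

/-- The subgroup generated by `a, …, f`. -/
noncomputable abbrev H : Subgroup Cfsg.Spor.Suz := genW Lg Top.subs

theorem top_table : TableOK Lg H Top.E id 1782 Top.Rep Top.Tb :=
  tableOK_of_check inv_all Top.hR Top.hdefs Top.hsteps Top.htable ev_rels
    (fun _ hw => ev_mem_genW hw)

theorem perm_rels : ∀ w ∈ pres.rels, ev (sigList Top.hperm) w = 1 := by
  rw [rels_eq]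
  exact ev_sigList_eq_one Top.hperm Top.hrels (by decide +kernel)

/-- The action on 1782 points. -/
noncomputable def ρ : Cfsg.Spor.Suz →* Equiv.Perm (Fin 1782) := pres.hom pres_ok perm_rels

theorem matches_ρ : Matches Lg ρ Top.Tb :=
  pres.matches_hom pres_ok rfl hix Top.hperm perm_rels

theorem index_and_eq : H.index = 1782 ∧ H = pstab ρ ⟨0, by decide⟩ :=
  exact_index top_table matches_ρ (by decide) Top.htrans closure_Lg
    (genW_le_pstab matches_ρ _ (by decide +kernel) (by decide +kernel))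

theorem transitive (i : Fin 1782) : ∃ g, ρ g ⟨0, by decide⟩ = i :=
  (matches_ρ.transitive (by decide) Top.htrans i).imp fun _ h => h.2

theorem level {S S' : List Nat} {rs subs : List (List Nat)} {E Rep Tb : Nat → Nat}
    {R : Tr (List Nat × Nat)} {d d' N nC n dn dk : Nat} {C Ref : Nat → Nat} (k : Nat)
    (hk : S.length = k)
    (hc : checkLevel rels 7 S S' rs subs = true)
    (hR : checkRules rs subs R = true) (hd : checkDefs E k d' N = true)
    (hs : checkChunks E id R k d N nC C = true)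
    (ht : checkTable E id (N + chunk * nC) n k dn dk Rep Ref Tb = true) :
    TableOK (lv Lg S) (genBy Lg S') E id n Rep Tb := by
  have hl : (lv Lg S).length = k := by simp [lv, hk]
  exact tableOK_of_check (inv_lv sq_all S) hR (hl.symm ▸ hd) (hl.symm ▸ hs) (hl.symm ▸ ht)
    (level_rels len_Lg hc ev_rels) (level_subs len_Lg hc)

theorem card_abcdef : Finite (genBy Lg [0, 1, 2, 3, 4, 5]) ∧
    Nat.card (genBy Lg [0, 1, 2, 3, 4, 5]) ≤ 416 * (280 * (135 * (16 * 1))) := by
  have c4 : checkLevel rels 7 [0, 2, 3] [] L4.lrels L4.subs = true := by decide +kernel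
  have c3 : checkLevel rels 7 [0, 1, 2, 3] [0, 2, 3] L3.lrels L3.subs = true := by decide +kernel
  have c2 : checkLevel rels 7 [0, 1, 2, 3, 4] [0, 1, 2, 3] L2.lrels L2.subs = true := by
    decide +kernel
  have c1 : checkLevel rels 7 [0, 1, 2, 3, 4, 5] [0, 1, 2, 3, 4] L1.lrels L1.subs = true := by
    decide +kernel
  exact level_card (level 6 rfl c1 L1.hR L1.hdefs L1.hsteps L1.htable) (by decide) c1
    (level_card (level 5 rfl c2 L2.hR L2.hdefs L2.hsteps L2.htable) (by decide) c2
      (level_card (level 4 rfl c3 L3.hR L3.hdefs L3.hsteps L3.htable) (by decide) c3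
        (level_card (level 3 rfl c4 L4.hR L4.hdefs L4.hsteps L4.htable) (by decide) c4
          card_genBy_nil)))

theorem card_le : Finite Cfsg.Spor.Suz ∧ Nat.card Cfsg.Spor.Suz ≤ 448345497600 := by
  have hH : H = genBy Lg [0, 1, 2, 3, 4, 5] := genW_singletons [0, 1, 2, 3, 4, 5]
  obtain ⟨hf, hc⟩ := top_table.finite_card_le (by decide) (closure_Lg ▸ le_top)
    (hH.symm ▸ card_abcdef.1) (hH.symm ▸ card_abcdef.2)
  rw [closure_Lg] at hf hc
  rw [Subgroup.card_top] at hc
  exact ⟨Finite.of_equiv _ Subgroup.topEquiv.toEquiv, hc.trans (by norm_num)⟩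

theorem card_and_injective : Nat.card Cfsg.Spor.Suz = 448345497600 ∧ Function.Injective ρ := by
  have := card_le.1
  refine card_eq_and_injective (by decide) card_le.2 ?_
  have h4 := card_ker_le (ρ := ρ) [(0 : Fin 1782), 1, 2, 160]
  have h3 := orbit_step matches_ρ (base := [(0 : Fin 1782), 1, 2]) (β := 160) (m := 180) (dm := 8)
    (gens := Orb.G3) (P := Orb.B3P) (Inv := Orb.B3Inv)
    (by decide +kernel) (by decide +kernel) (by decide +kernel) h4
  have h2 := orbit_step matches_ρ (base := [(0 : Fin 1782), 1]) (β := 2) (m := 1024) (dm := 10)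
    (gens := Orb.G2) (P := Orb.B2P) (Inv := Orb.B2Inv)
    (by decide +kernel) (by decide +kernel) (by decide +kernel) h3
  have h1 := orbit_step matches_ρ (base := [(0 : Fin 1782)]) (β := 1) (m := 1365) (dm := 11)
    (gens := Orb.G1) (P := Orb.B1P) (Inv := Orb.B1Inv)
    (by decide +kernel) (by decide +kernel) (by decide +kernel) h2
  have h0 := orbit_step matches_ρ (base := []) (β := 0) (m := 1782) (dm := 11)
    (gens := Orb.G0) (P := Orb.B0P) (Inv := Orb.B0Inv)
    (by decide +kernel) (by decide +kernel) (by decide +kernel) h1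
  simpa [← mul_assoc] using h0

theorem orbits_ok : checkOrbits Top.Tb 11 Top.subs Orb.certs = true := by decide +kernel

theorem cover_ok : checkCover 1782 11 Orb.certs = true := by decide +kernel

theorem subs_letters : checkLetters (Lg).length Top.subs = true := by decide +kernel

theorem rank_three : ∃ q₁ q₂ : Cfsg.Spor.Suz ⧸ H,
    (MulAction.orbit H q₁).ncard = 416 ∧ (MulAction.orbit H q₂).ncard = 1365 := by
  obtain ⟨q₂, h2⟩ := exists_orbit_coset index_and_eq.2 H transitive
    (orbits_ncard matches_ρ orbits_ok subs_letters (c := ⟨1, 1365, Orb.A0P, Orb.A0Inv⟩)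
      (by simp [Orb.certs]) 1 rfl)
  obtain ⟨q₁, h1⟩ := exists_orbit_coset index_and_eq.2 H transitive
    (orbits_ncard matches_ρ orbits_ok subs_letters (c := ⟨47, 416, Orb.A1P, Orb.A1Inv⟩)
      (by simp [Orb.certs]) 47 rfl)
  exact ⟨q₁, q₂, h1, h2⟩

/-- A word of order 11. -/
def u : List Nat := [1, 2, 3, 4, 6, 5]

theorem u_pow : ev Lg u ^ 11 ^ 1 = 1 := by
  apply card_and_injective.2
  rw [map_one, pow_ev]
  have hc : checkRels 1782 11 Top.Tb [(List.replicate (11 ^ 1) u).flatten] = true := by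
    decide +kernel
  refine Equiv.ext fun i => ?_
  have h := allList_iff.mp (of_allBelow hc i i.2) _ (List.mem_singleton_self _)
  have hl : ∀ l ∈ (List.replicate (11 ^ 1) u).flatten, l < (Lg).length := by
    decide +kernel
  exact (matches_ρ.fix_iff hl).mpr (Nat.eq_of_beq_eq_true h)

theorem collapse (N : Subgroup Cfsg.Spor.Suz) [N.Normal] (hu : ev Lg u ∈ N) : N = ⊤ := by
  refine eq_top_of_collapse closure_Lg N hu fun L' hlen hL h1 => ?_
  have hl : L'.length = 7 := hlen
  have hr : ∀ w ∈ Col.crels, ev L' w = 1 := by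
    intro w hw
    rcases List.mem_append.mp hw with hw | hw
    · rw [hL, ev_rels w hw, map_one]
    · rw [List.mem_singleton.mp hw]; exact h1
  have hinv : ∀ x, fl L' (id x) = (fl L' x)⁻¹ := by
    intro x
    refine eq_inv_of_mul_eq_one_left ?_
    have := hL [x, x]
    simp only [ev_cons, ev_nil, mul_one, sq_all, map_one] at this
    exact this
  have hsub : ∀ w ∈ Col.subs, ev L' w ∈ (⊥ : Subgroup (Cfsg.Spor.Suz ⧸ N)) := by
    intro w hw; simp [Col.subs] at hw
  exact all_one_of_table (tableOK_of_check hinv Col.hR (hl.symm ▸ Col.hdefs)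
    (hl.symm ▸ Col.hsteps) (hl.symm ▸ Col.htable) hr hsub)

theorem isSimple : IsSimpleGroup Cfsg.Spor.Suz := by
  have := card_le.1
  have : Fact (Nat.Prime 11) := ⟨by norm_num⟩
  have hmax := pstab_isCoatom_of_orbits matches_ρ (by decide) orbits_ok subs_letters cover_ok
    transitive (by decide +kernel) index_and_eq.2.le (by decide +kernel) (by decide +kernel)
  refine isSimpleGroup_of_action (by decide) card_and_injective.2 transitive hmax
    (p := 11) (a := 1) (by norm_num) ?_ (ev Lg u) u_pow fun N hN hu => ?_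
  · rw [card_and_injective.1]; norm_num
  · exact @collapse N hN hu

theorem isSuz : Cfsg.IsSuz Cfsg.Spor.Suz := ⟨isSimple, card_and_injective.1⟩

end CfsgLib.Coset.Suz
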