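import Cfsg.Agent.Coset.Suz.Main
import Cfsg.Agent.Coset.Suz.K1
import Cfsg.Agent.Coset.Suz.K2
import Cfsg.Agent.Coset.Suz.KOrbData

/-! The index of `⟨a, b, c, d, f, g⟩` in `Cfsg.Spor.Suz`. -/

set_option autoImplicit false
set_option maxRecDepth 100000

namespace CfsgLib.Coset.Suz

theorem card_K_le : Nat.card (genBy Lg [0, 1, 2, 3, 5, 6]) ≤ 162 * (56 * (135 * (16 * 1))) := by
  have c4 : checkLevel rels 7 [0, 2, 3] [] L4.lrels L4.subs = true := by decide +kernel
  have c3 : checkLevel rels 7 [0, 1, 2, 3] [0, 2, 3] L3.lrels L3.subs = true := by decide +kernel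
  have c2 : checkLevel rels 7 [0, 1, 2, 3, 5] [0, 1, 2, 3] K2.lrels K2.subs = true := by
    decide +kernel
  have c1 : checkLevel rels 7 [0, 1, 2, 3, 5, 6] [0, 1, 2, 3, 5] K1.lrels K1.subs = true := by
    decide +kernel
  exact (level_card (level 6 rfl c1 K1.hR K1.hdefs K1.hsteps K1.htable) (by decide) c1
    (level_card (level 5 rfl c2 K2.hR K2.hdefs K2.hsteps K2.htable) (by decide) c2
      (level_card (level 4 rfl c3 L3.hR L3.hdefs L3.hsteps L3.htable) (by decide) c3
        (level_card (level 3 rfl c4 L4.hR L4.hdefs L4.hsteps L4.htable) (by decide) c4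
          card_genBy_nil)))).2

theorem le_card_K : 1620 * (672 * (18 * 1)) ≤ Nat.card (genBy Lg [0, 1, 2, 3, 5, 6]) := by
  have := card_le.1
  have hw : ∀ ws : List (List Nat), (ws.all fun w => w.all fun l =>
      [0, 1, 2, 3, 5, 6].contains l) = true → ∀ w ∈ ws, ev Lg w ∈ genBy Lg [0, 1, 2, 3, 5, 6] := by
    intro ws h w hmem
    simp only [List.all_eq_true, List.contains_iff_mem] at h
    exact ev_mem_genBy _ fun l hl => h w hmem l hl
  set T := genBy Lg [0, 1, 2, 3, 5, 6]
  have h3 : 1 ≤ Nat.card (T ⊓ baseStab ρ [(14 : Fin 1782), 28, 7] : Subgroup Cfsg.Spor.Suz) :=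
    Nat.card_pos
  have h2 := orbit_step_in matches_ρ T (base := [(14 : Fin 1782), 28]) (β := 7) (m := 18) (dm := 5)
    (gens := KOrb.G2) (P := KOrb.B2P) (Inv := KOrb.B2Inv)
    (by decide +kernel) (by decide +kernel) (by decide +kernel) (hw _ (by decide +kernel)) h3
  have h1 := orbit_step_in matches_ρ T (base := [(14 : Fin 1782)]) (β := 28) (m := 672) (dm := 10)
    (gens := KOrb.G1) (P := KOrb.B1P) (Inv := KOrb.B1Inv)
    (by decide +kernel) (by decide +kernel) (by decide +kernel) (hw _ (by decide +kernel)) h2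
  have h0 := orbit_step_in matches_ρ T (base := []) (β := 14) (m := 1620) (dm := 11)
    (gens := KOrb.G0) (P := KOrb.B0P) (Inv := KOrb.B0Inv)
    (by decide +kernel) (by decide +kernel) (by decide +kernel) (hw _ (by decide +kernel)) h1
  have he : T ⊓ baseStab ρ ([] : List (Fin 1782)) = T := by simp [baseStab]
  rwa [he] at h0

theorem index_K : (genBy Lg [0, 1, 2, 3, 5, 6]).index = 22880 := by
  have hc : Nat.card (genBy Lg [0, 1, 2, 3, 5, 6]) = 19595520 :=
    le_antisymm (card_K_le.trans (by norm_num)) (le_trans (by norm_num) le_card_K)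
  have h := Subgroup.card_mul_index (genBy Lg [0, 1, 2, 3, 5, 6])
  rw [hc, card_and_injective.1] at h
  omega

end CfsgLib.Coset.Suz
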